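import Mathlib.Algebra.Lie.Basis.Base
import Mathlib.Algebra.Lie.Semisimple.Defs
import Mathlib.Algebra.Lie.CartanCriterion
import Mathlib.FieldTheory.IsAlgClosed.Basic
import Mathlib

/-!
# The adjoint module of a simple Lie algebra near the highest root

For a Lie algebra with a basis `b` and a vector `e₀` killed by all `b.e i`: the iterated brackets by the
`b.f i` span the Lie algebra if it is simple, which determines the first weight spaces below the top.
-/

set_option autoImplicit false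
set_option linter.style.haveILetI false

open LieAlgebra LieModule Module

namespace Groth.Agent.H25Adj

variable {ι K L : Type*} [Fintype ι] [Field K] [CharZero K] [LieRing L] [LieAlgebra K L]
  [FiniteDimensional K L] {H : LieSubalgebra K L} (b : LieAlgebra.Basis ι H)

/-- The simultaneous eigenspace of `ad H`. -/
def wsp (H : LieSubalgebra K L) (μ : Dual K H) : Submodule K L where
  carrier := {x | ∀ h : H, ⁅(h : L), x⁆ = μ h • x}
  zero_mem' h := by simp
  add_mem' {x y} hx hy h := by rw [lie_add, hx h, hy h, smul_add]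
  smul_mem' c x hx h := by rw [lie_smul, hx h, smul_comm]

theorem lie_mem_wsp {μ ν : Dual K H} {x y : L} (hx : x ∈ wsp H μ) (hy : y ∈ wsp H ν) :
    ⁅x, y⁆ ∈ wsp H (μ + ν) := fun h => by
  rw [leibniz_lie, hx h, hy h, smul_lie, lie_smul, LinearMap.add_apply, add_smul]

theorem e_mem_wsp (i : ι) : b.e i ∈ wsp H (b.baseSupp i) := fun h => by
  rw [b.baseSupp_apply_smul_e]
  rfl

theorem f_mem_wsp (i : ι) : b.f i ∈ wsp H (-b.baseSupp i) := fun h => by
  rw [LinearMap.neg_apply, neg_smul, b.baseSupp_apply_smul_f, neg_neg]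
  rfl

theorem wsp_unique {μ ν : Dual K H} {x : L} (hx : x ≠ 0) (h1 : x ∈ wsp H μ) (h2 : x ∈ wsp H ν) : μ = ν :=
  LinearMap.ext fun h => smul_left_injective K hx ((h1 h).symm.trans (h2 h))

/-- The components of an element of an `ad H`-stable subspace lie in it. -/
theorem component_mem {W : Submodule K L} (hW : ∀ h : H, ∀ w ∈ W, ⁅(h : L), w⁆ ∈ W)
    (s : Finset (Dual K H)) : ∀ (c : Dual K H → L), (∀ μ ∈ s, c μ ∈ wsp H μ) →
      ∑ μ ∈ s, c μ ∈ W → ∀ μ ∈ s, c μ ∈ W := by
  classical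
  induction s using Finset.induction_on with
  | empty => simp
  | insert a s ha ih =>
    intro c hc hsum μ hμ
    rw [Finset.sum_insert ha] at hsum
    have hs : ∀ ν ∈ s, c ν ∈ W := by
      intro ν hν
      obtain ⟨h, hh⟩ : ∃ h, ν h ≠ a h := by
        by_contra hne
        push Not at hne
        exact ha (LinearMap.ext hne ▸ hν)
      have h1 := ih (fun x => (x h - a h) • c x) (fun x hx => Submodule.smul_mem _ _
        (hc x (Finset.mem_insert_of_mem hx))) (by
        have h2 := sub_mem (hW h _ hsum) (W.smul_mem (a h) hsum)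
        rw [lie_add, hc a (Finset.mem_insert_self a s) h, lie_sum, smul_add, Finset.smul_sum,
          add_sub_add_left_eq_sub, ← Finset.sum_sub_distrib] at h2
        convert h2 using 1
        refine Finset.sum_congr rfl fun x hx => ?_
        rw [hc x (Finset.mem_insert_of_mem hx) h, sub_smul]) ν hν
      have h3 := W.smul_mem (ν h - a h)⁻¹ h1
      rwa [smul_smul, inv_mul_cancel₀ (sub_ne_zero.mpr hh), one_smul] at h3
    rcases Finset.mem_insert.mp hμ with rfl | hμ
    · simpa using sub_mem hsum (sum_mem hs)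
    · exact hs μ hμ

/-- Iterated brackets `f_{i₁} ⋯ f_{iₖ} v`. -/
def word (v : L) : List ι → L
  | [] => v
  | i :: l => ⁅b.f i, word v l⁆

theorem word_mem_wsp {v : L} {μ : Dual K H} (hv : v ∈ wsp H μ) :
    ∀ l : List ι, word b v l ∈ wsp H (μ - (l.map b.baseSupp).sum)
  | [] => by simpa [word] using hv
  | i :: l => by
    have h := lie_mem_wsp (f_mem_wsp b i) (word_mem_wsp hv l)
    have e : μ - ((i :: l).map b.baseSupp).sum = -b.baseSupp i + (μ - (l.map b.baseSupp).sum) := by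
      simp only [List.map_cons, List.sum_cons]
      abel
    rw [e]
    exact h

theorem lie_e_word_mem {v : L} {μ : Dual K H} (hv : v ∈ wsp H μ) (he : ∀ i, ⁅b.e i, v⁆ = 0) (i : ι) :
    ∀ l : List ι, ⁅b.e i, word b v l⁆ ∈ Submodule.span K (Set.range (word b v))
  | [] => by rw [word, he]; exact zero_mem _
  | k :: l => by
    rw [word, leibniz_lie]
    refine add_mem ?_ ?_
    · rcases eq_or_ne i k with rfl | hik
      · rw [(b.sl2 i).lie_e_f]
        have h := word_mem_wsp b hv l (b.h' i)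
        change ⁅((b.h' i : H) : L), _⁆ ∈ _
        rw [h]
        exact Submodule.smul_mem _ _ (Submodule.subset_span ⟨l, rfl⟩)
      · rw [b.lie_e_f_ne i k hik, zero_lie]
        exact zero_mem _
    · have h := lie_e_word_mem hv he i l
      generalize ⁅b.e i, word b v l⁆ = y at h ⊢
      induction h using Submodule.span_induction with
      | mem x hx =>
        obtain ⟨l', rfl⟩ := hx
        exact Submodule.subset_span ⟨k :: l', rfl⟩
      | zero => simp
      | add x y _ _ hx hy => rw [lie_add]; exact add_mem hx hy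
      | smul c x _ hx => rw [lie_smul]; exact Submodule.smul_mem _ _ hx

variable {b} in
theorem f_lie_eq_zero_of_apply_eq {μ : Dual K H} {x : L} (hx : x ∈ wsp H μ) (i : ι)
    (he : ⁅b.e i, x⁆ = 0) (n : ℕ) (hn : μ (b.h' i) = n) :
    ((LieModule.toEnd K L L (b.f i)) ^ (n + 1)) x = 0 := by
  rcases eq_or_ne x 0 with rfl | hx0
  · simp
  have hh : ⁅b.h i, x⁆ = μ (b.h' i) • x := hx (b.h' i)
  have P : (b.sl2 i).HasPrimitiveVectorWith x (μ (b.h' i)) :=
    { ne_zero := hx0, lie_h := hh, lie_e := he }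
  exact P.pow_toEnd_f_eq_zero_of_eq_nat hn

variable [LieAlgebra.IsSimple K L]

theorem span_word_eq_top {v : L} {μ : Dual K H} (hv : v ∈ wsp H μ) (he : ∀ i, ⁅b.e i, v⁆ = 0)
    (hv0 : v ≠ 0) : Submodule.span K (Set.range (word b v)) = ⊤ := by
  set S := Submodule.span K (Set.range (word b v)) with hS
  let T : LieSubalgebra K L :=
    { carrier := {x | ∀ s ∈ S, ⁅x, s⁆ ∈ S}
      zero_mem' := fun s _ => by simp
      add_mem' := fun {x y} hx hy s hs => by rw [add_lie]; exact add_mem (hx s hs) (hy s hs)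
      smul_mem' := fun c x hx s hs => by rw [smul_lie]; exact S.smul_mem c (hx s hs)
      lie_mem' := fun {x y} hx hy s hs => by
        rw [lie_lie]; exact sub_mem (hx _ (hy s hs)) (hy _ (hx s hs)) }
  have hT : (⊤ : LieSubalgebra K L) ≤ T := by
    rw [← b.span_ef, LieSubalgebra.lieSpan_le]
    rintro _ (⟨i, rfl⟩ | ⟨i, rfl⟩) s hs
    · induction hs using Submodule.span_induction with
      | mem x hx => obtain ⟨l, rfl⟩ := hx; exact lie_e_word_mem b hv he i l
      | zero => simp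
      | add x y _ _ hx hy => rw [lie_add]; exact add_mem hx hy
      | smul c x _ hx => rw [lie_smul]; exact S.smul_mem c hx
    · induction hs using Submodule.span_induction with
      | mem x hx => obtain ⟨l, rfl⟩ := hx; exact Submodule.subset_span ⟨i :: l, rfl⟩
      | zero => simp
      | add x y _ _ hx hy => rw [lie_add]; exact add_mem hx hy
      | smul c x _ hx => rw [lie_smul]; exact S.smul_mem c hx
  let I : LieIdeal K L := { S with lie_mem := fun {x m} hm => hT (LieSubalgebra.mem_top x) m hm }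
  rcases IsSimple.eq_bot_or_eq_top (R := K) I with h | h
  · have hv' : v ∈ I := (Submodule.subset_span ⟨[], rfl⟩ : v ∈ S)
    rw [h] at hv'
    exact absurd ((LieSubmodule.mem_bot _).mp hv') hv0
  · refine eq_top_iff.mpr fun x _ => ?_
    have hx : x ∈ I := by rw [h]; exact LieSubmodule.mem_top x
    exact hx

theorem list_perm_of_sum_eq {l l' : List ι}
    (h : (l.map b.baseSupp).sum = (l'.map b.baseSupp).sum) : l.Perm l' := by
  classical
  rw [List.perm_iff_count]
  have key : ∀ m : List ι, (m.map b.baseSupp).sum = ∑ i, (m.count i : K) • b.baseSupp i := by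
    intro m
    induction m with
    | nil => simp
    | cons a m ih =>
      simp only [List.map_cons, List.sum_cons, ih, List.count_cons, beq_iff_eq, Nat.cast_add,
        Nat.cast_ite, Nat.cast_one, Nat.cast_zero, add_smul, Finset.sum_add_distrib, ite_smul, one_smul,
        zero_smul, Finset.sum_ite_eq, Finset.mem_univ, if_true]
      rw [add_comm]
  rw [key, key] at h
  intro i
  exact_mod_cast Fintype.linearIndependent_iffₛ.mp b.linearIndependent_baseSupp _ _ h i

/-- Data of a highest vector. -/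
structure HighVec where
  /-- The vector. -/
  v : L
  /-- Its weight. -/
  ρ : Dual K H
  mem : v ∈ wsp H ρ
  killed : ∀ i, ⁅b.e i, v⁆ = 0
  ne_zero : v ≠ 0

variable {b} (D : HighVec b)

theorem HighVec.mem_span_words {μ : Dual K H} {x : L} (hx : x ∈ wsp H μ) :
    x ∈ Submodule.span K (word b D.v '' {l | D.ρ - (l.map b.baseSupp).sum = μ}) := by
  classical
  have hxS : x ∈ Submodule.span K (Set.range (word b D.v)) := by
    rw [span_word_eq_top b D.mem D.killed D.ne_zero]; trivial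
  obtain ⟨c, rfl⟩ := Finsupp.mem_span_range_iff_exists_finsupp.mp hxS
  let wt : List ι → Dual K H := fun l => D.ρ - (l.map b.baseSupp).sum
  let comp : Dual K H → L := fun ν => ∑ l ∈ c.support.filter (fun l => wt l = ν), c l • word b D.v l
  have hcomp : ∀ ν, comp ν ∈ wsp H ν := fun ν => sum_mem fun l hl => by
    obtain ⟨-, rfl⟩ := Finset.mem_filter.mp hl
    exact Submodule.smul_mem _ _ (word_mem_wsp b D.mem l)
  have hsum : (c.sum fun l a => a • word b D.v l) = ∑ ν ∈ c.support.image wt, comp ν :=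
    (Finset.sum_fiberwise_of_maps_to (fun l hl => Finset.mem_image_of_mem wt hl) _).symm
  have hcm : comp μ ∈ Submodule.span K (word b D.v '' {l | wt l = μ}) := sum_mem fun l hl =>
    Submodule.smul_mem _ _ (Submodule.subset_span ⟨l, (Finset.mem_filter.mp hl).2, rfl⟩)
  let c' : Dual K H → L := fun ν => if ν = μ then comp μ - (c.sum fun l a => a • word b D.v l) else comp ν
  have hc' : ∀ ν ∈ insert μ (c.support.image wt), c' ν ∈ wsp H ν := fun ν _ => by
    by_cases hν : ν = μ
    · subst hν; simp only [c', if_pos]; exact sub_mem (hcomp ν) hx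
    · simp only [c', if_neg hν]; exact hcomp ν
  have hzero : ∑ ν ∈ insert μ (c.support.image wt), c' ν = 0 := by
    have h1 : ∑ ν ∈ insert μ (c.support.image wt), c' ν
        = (∑ ν ∈ insert μ (c.support.image wt), comp ν) - (c.sum fun l a => a • word b D.v l) := by
      rw [← Finset.add_sum_erase _ _ (Finset.mem_insert_self μ _), ← Finset.add_sum_erase _ _
        (Finset.mem_insert_self μ (c.support.image wt)), sub_eq_add_neg _ (c.sum _)]
      simp only [c', if_pos]
      rw [Finset.sum_congr rfl fun ν hν => if_neg (Finset.ne_of_mem_erase hν)]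
      abel
    rw [h1, hsum, Finset.sum_insert_of_eq_zero_if_notMem, sub_self]
    intro hμ
    exact Finset.sum_eq_zero fun l hl => absurd
      (Finset.mem_image.mpr ⟨l, (Finset.mem_filter.mp hl).1, (Finset.mem_filter.mp hl).2⟩) hμ
  have h0 := component_mem (W := (⊥ : Submodule K L))
    (fun h w hw => by rw [(Submodule.mem_bot K).mp hw, lie_zero]; exact zero_mem _) _ c' hc'
    (by rw [hzero]; exact zero_mem _) μ (Finset.mem_insert_self _ _)
  simp only [c', if_pos, Submodule.mem_bot, sub_eq_zero] at h0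
  rw [← h0]
  exact hcm

theorem HighVec.exists_word {μ : Dual K H} {x : L} (hx : x ∈ wsp H μ) (hx0 : x ≠ 0) :
    ∃ l : List ι, D.ρ - (l.map b.baseSupp).sum = μ := by
  by_contra h
  push Not at h
  have h1 := D.mem_span_words hx
  rw [show {l : List ι | D.ρ - (l.map b.baseSupp).sum = μ} = ∅ from
    Set.eq_empty_of_forall_notMem fun l hl => h l hl, Set.image_empty, Submodule.span_empty] at h1
  exact hx0 ((Submodule.mem_bot K).mp h1)

theorem HighVec.wsp_ρ {x : L} (hx : x ∈ wsp H D.ρ) : x ∈ K ∙ D.v := by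
  refine Submodule.span_mono ?_ (D.mem_span_words hx)
  rintro _ ⟨l, hl, rfl⟩
  have hp : l.Perm [] := list_perm_of_sum_eq b (by simpa using hl)
  rw [hp.eq_nil]; rfl

theorem HighVec.of_killed {μ : Dual K H} {x : L} (hx : x ∈ wsp H μ) (hk : ∀ i, ⁅b.e i, x⁆ = 0)
    (hx0 : x ≠ 0) : μ = D.ρ := by
  obtain ⟨l, hl⟩ := D.exists_word hx hx0
  obtain ⟨l', hl'⟩ := (⟨x, μ, hx, hk, hx0⟩ : HighVec b).exists_word D.mem D.ne_zero
  change μ - _ = D.ρ at hl'
  have h : ((l ++ l').map b.baseSupp).sum = (([] : List ι).map b.baseSupp).sum := by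
    rw [List.map_append, List.sum_append, List.map_nil, List.sum_nil]
    have : D.ρ - ((l.map b.baseSupp).sum + (l'.map b.baseSupp).sum) = D.ρ := by
      rw [← sub_sub, hl, hl']
    simpa using this
  have hnil := (List.append_eq_nil_iff.mp (list_perm_of_sum_eq b h).eq_nil).1
  subst hnil
  simpa using hl.symm

section top

variable {j : ι} (hN : ∀ i, D.ρ (b.h' i) ≠ 0 ↔ i = j) (hj : D.ρ (b.h' j) = 1)

include hN in
theorem HighVec.f_lie_eq_zero {i : ι} (hi : i ≠ j) : ⁅b.f i, D.v⁆ = 0 := by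
  have h := f_lie_eq_zero_of_apply_eq D.mem i (D.killed i) 0
    (by rw [Nat.cast_zero]; exact not_not.mp (mt (hN i).mp hi))
  simpa using h

include hj in
theorem HighVec.f_f_lie_eq_zero : ⁅b.f j, ⁅b.f j, D.v⁆⁆ = 0 := by
  have h := f_lie_eq_zero_of_apply_eq D.mem j (D.killed j) 1 (by rw [hj, Nat.cast_one])
  simpa [pow_succ] using h

include hj in
theorem HighVec.e_f_self : ⁅b.e j, ⁅b.f j, D.v⁆⁆ = D.v := by
  rw [leibniz_lie, (b.sl2 j).lie_e_f, D.killed, lie_zero, add_zero]
  have h := D.mem (b.h' j)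
  rw [hj, one_smul] at h
  exact h

theorem HighVec.e_f_ne {i : ι} (hi : i ≠ j) : ⁅b.e i, ⁅b.f j, D.v⁆⁆ = 0 := by
  rw [leibniz_lie, b.lie_e_f_ne i j hi, zero_lie, D.killed, lie_zero, add_zero]

include hj in
theorem HighVec.f_lie_ne_zero : ⁅b.f j, D.v⁆ ≠ 0 := fun h => D.ne_zero (by
  rw [← D.e_f_self hj, h, lie_zero])

theorem HighVec.f_mem : ⁅b.f j, D.v⁆ ∈ wsp H (D.ρ - b.baseSupp j) := by
  simpa [word] using word_mem_wsp b D.mem [j]

theorem HighVec.ff_mem (k : ι) :
    ⁅b.f k, ⁅b.f j, D.v⁆⁆ ∈ wsp H (D.ρ - b.baseSupp j - b.baseSupp k) := by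
  have h := word_mem_wsp b D.mem [k, j]
  simp only [List.map_cons, List.map_nil, List.sum_cons, List.sum_nil, add_zero, word] at h
  convert h using 2
  abel

include hN in
theorem HighVec.wsp_sub {i : ι} {x : L} (hx : x ∈ wsp H (D.ρ - b.baseSupp i)) :
    x ∈ K ∙ ⁅b.f i, D.v⁆ ∧ (x ≠ 0 → i = j) := by
  have h : x ∈ K ∙ ⁅b.f i, D.v⁆ := by
    refine Submodule.span_mono ?_ (D.mem_span_words hx)
    rintro _ ⟨l, hl, rfl⟩
    have hp : l.Perm [i] := list_perm_of_sum_eq b (by simpa using hl)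
    rw [List.perm_singleton.mp hp]; rfl
  refine ⟨h, fun hx0 => ?_⟩
  by_contra hij
  rw [D.f_lie_eq_zero hN hij, Submodule.span_zero_singleton, Submodule.mem_bot] at h
  exact hx0 h

omit [LieAlgebra.IsSimple K L] in
theorem A_eq_zero_comm (b : LieAlgebra.Basis ι H) {i k : ι} (hik : i ≠ k) (h : b.A i k = 0) :
    b.A k i = 0 := by
  have h1 : ⁅b.e k, b.f i⁆ = 0 := b.lie_e_f_ne k i hik.symm
  have h2 := f_lie_eq_zero_of_apply_eq (f_mem_wsp b i) k h1 0 (by simp [h])
  replace h2 : ⁅b.f k, b.f i⁆ = 0 := by simpa using h2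
  have h3 : ⁅b.e i, ⁅b.f k, b.f i⁆⁆ = 0 := by rw [h2, lie_zero]
  rw [leibniz_lie, b.lie_e_f_ne i k hik, zero_lie, zero_add, (b.sl2 i).lie_e_f, ← lie_skew,
    b.lie_h_f, neg_smul, neg_neg, ← Int.cast_smul_eq_zsmul K] at h3
  exact_mod_cast (smul_eq_zero.mp h3).resolve_right (b.sl2 k).f_ne_zero

include hN hj in
theorem HighVec.wsp_sub_sub {k : ι} {x : L} (hx : x ∈ wsp H (D.ρ - b.baseSupp j - b.baseSupp k)) :
    x ∈ K ∙ ⁅b.f k, ⁅b.f j, D.v⁆⁆ ∧ (x ≠ 0 → k ≠ j ∧ b.A k j ≠ 0) := by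
  have h : x ∈ K ∙ ⁅b.f k, ⁅b.f j, D.v⁆⁆ := by
    refine Submodule.span_le.mpr ?_ (D.mem_span_words hx)
    rintro _ ⟨l, hl, rfl⟩
    have hp : l.Perm [k, j] := list_perm_of_sum_eq b (by
      simp only [Set.mem_setOf_eq] at hl
      simp only [List.map_cons, List.map_nil, List.sum_cons, List.sum_nil, add_zero]
      rw [sub_sub, sub_right_inj] at hl
      rw [hl, add_comm])
    match l, hp with
    | [a, c], hp =>
      have ha : a ∈ [k, j] := hp.subset (by simp)
      have hc : c ∈ [k, j] := hp.subset (by simp)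
      show ⁅b.f a, ⁅b.f c, D.v⁆⁆ ∈ _
      rcases eq_or_ne c j with rfl | hcj
      · by_cases hak : a = k
        · subst hak; exact Submodule.mem_span_singleton_self _
        · have : a = c := by simpa [hak] using ha
          rw [this, D.f_f_lie_eq_zero hj]; exact zero_mem _
      · rw [D.f_lie_eq_zero hN hcj, lie_zero]; exact zero_mem _
    | [], hp => simpa using hp.length_eq
    | [_], hp => simpa using hp.length_eq
    | _ :: _ :: _ :: _, hp => simpa using hp.length_eq
  refine ⟨h, fun hx0 => ?_⟩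
  have hne : ⁅b.f k, ⁅b.f j, D.v⁆⁆ ≠ 0 := fun h0 => hx0 (by simpa [h0] using h)
  have hkj : k ≠ j := by
    intro e
    rw [e] at hne
    exact hne (D.f_f_lie_eq_zero hj)
  refine ⟨hkj, fun hA => hne ?_⟩
  have hA' := A_eq_zero_comm b hkj hA
  have h0 := f_lie_eq_zero_of_apply_eq D.f_mem k (D.e_f_ne hkj) 0 (by
    rw [LinearMap.sub_apply, b.baseSupp_apply_h', hA', not_not.mp (mt (hN k).mp hkj)]; simp)
  simpa using h0

include D in
theorem HighVec.exists_mem_lie_e_mem {W U : Submodule K L}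
    (hW : ∀ h : H, ∀ w ∈ W, ⁅(h : L), w⁆ ∈ W) (hWe : ∀ i, ∀ w ∈ W, ⁅b.e i, w⁆ ∈ W) (hUW : ¬ W ≤ U) :
    ∃ (μ : Dual K H) (w : L), w ∈ W ∧ w ∉ U ∧ w ∈ wsp H μ ∧ ∀ i, ⁅b.e i, w⁆ ∈ U := by
  classical
  let P : ℕ → Prop := fun n => ∃ l : List ι, l.length = n ∧
    ∃ w ∈ W, w ∉ U ∧ w ∈ wsp H (D.ρ - (l.map b.baseSupp).sum)
  have hP : ∃ n, P n := by
    by_contra hne
    simp only [P, not_exists, not_and] at hne
    refine hUW fun x hx => ?_
    have hxS : x ∈ Submodule.span K (Set.range (word b D.v)) := by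
      rw [span_word_eq_top b D.mem D.killed D.ne_zero]; trivial
    obtain ⟨c, rfl⟩ := Finsupp.mem_span_range_iff_exists_finsupp.mp hxS
    let wt : List ι → Dual K H := fun l => D.ρ - (l.map b.baseSupp).sum
    have hsum : (c.sum fun l a => a • word b D.v l) = ∑ ν ∈ c.support.image wt,
        ∑ l ∈ c.support.filter (fun l => wt l = ν), c l • word b D.v l :=
      (Finset.sum_fiberwise_of_maps_to (fun l hl => Finset.mem_image_of_mem wt hl) _).symm
    rw [hsum] at hx ⊢
    refine sum_mem fun ν hν => ?_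
    have hmem : ∀ μ, (∑ l ∈ c.support.filter (fun l => wt l = μ), c l • word b D.v l) ∈ wsp H μ :=
      fun μ => sum_mem fun l hl => by
        obtain ⟨-, rfl⟩ := Finset.mem_filter.mp hl
        exact Submodule.smul_mem _ _ (word_mem_wsp b D.mem l)
    have hw := component_mem hW _ _ (fun μ _ => hmem μ) hx ν hν
    obtain ⟨l, -, rfl⟩ := Finset.mem_image.mp hν
    by_contra hnU
    exact hne _ l rfl _ hw hnU (hmem _)
  obtain ⟨l, hl, w, hw, hwU, hwμ⟩ := Nat.find_spec hP
  refine ⟨_, w, hw, hwU, hwμ, fun i => ?_⟩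
  by_contra hnU
  have hm := lie_mem_wsp (e_mem_wsp b i) hwμ
  obtain ⟨l', hl'⟩ := D.exists_word hm (fun h => hnU (h ▸ zero_mem U))
  have hlen : (i :: l').Perm l := list_perm_of_sum_eq b (by
    simp only [List.map_cons, List.sum_cons]
    have e := congrArg (fun z => D.ρ - z) hl'
    simp only [sub_sub_cancel] at e
    rw [e]; abel)
  refine Nat.find_min hP (m := l'.length) ?_ ⟨l', rfl, _, hWe i w hw, hnU, hl' ▸ hm⟩
  rw [← hl, ← hlen.length_eq]
  simp

include hN in
/-- A stable subspace of dimension at least two contains the first two lines. -/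
theorem HighVec.v_f_mem {W : Submodule K L} (hW : ∀ h : H, ∀ w ∈ W, ⁅(h : L), w⁆ ∈ W)
    (hWe : ∀ i, ∀ w ∈ W, ⁅b.e i, w⁆ ∈ W) (hd : 2 ≤ finrank K W) :
    D.v ∈ W ∧ ⁅b.f j, D.v⁆ ∈ W := by
  have h0 : ¬ W ≤ ⊥ := fun h => by
    rw [le_bot_iff] at h; subst h; simp at hd
  obtain ⟨μ, w, hw, hwU, hwμ, hwe⟩ := D.exists_mem_lie_e_mem hW hWe h0
  have hw0 : w ≠ 0 := fun h => hwU (h ▸ zero_mem _)
  have hμ := D.of_killed hwμ (fun i => by simpa using hwe i) hw0
  subst hμ
  obtain ⟨c, rfl⟩ := Submodule.mem_span_singleton.mp (D.wsp_ρ hwμ)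
  have hc : c ≠ 0 := fun h => hw0 (by simp [h])
  have hv : D.v ∈ W := by simpa [smul_smul, hc] using W.smul_mem c⁻¹ hw
  refine ⟨hv, ?_⟩
  have h1 : ¬ W ≤ K ∙ D.v := fun h => by
    have := Submodule.finrank_mono h
    rw [finrank_span_singleton D.ne_zero] at this
    omega
  obtain ⟨μ, x, hx, hxU, hxμ, hxe⟩ := D.exists_mem_lie_e_mem hW hWe h1
  obtain ⟨i, hi⟩ : ∃ i, ⁅b.e i, x⁆ ≠ 0 := by
    by_contra hne
    push Not at hne
    exact hxU (D.wsp_ρ ((D.of_killed hxμ hne (fun h => hxU (h ▸ zero_mem _))) ▸ hxμ))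
  obtain ⟨d, hd'⟩ := Submodule.mem_span_singleton.mp (hxe i)
  have hm := lie_mem_wsp (e_mem_wsp b i) hxμ
  have hρ : b.baseSupp i + μ = D.ρ := wsp_unique hi hm (hd' ▸ Submodule.smul_mem _ d D.mem)
  have hμ : μ = D.ρ - b.baseSupp i := eq_sub_of_add_eq' hρ
  subst hμ
  obtain ⟨h2, h3⟩ := D.wsp_sub hN hxμ
  have hx0 : x ≠ 0 := fun h => hxU (h ▸ zero_mem _)
  obtain rfl := h3 hx0
  obtain ⟨c, rfl⟩ := Submodule.mem_span_singleton.mp h2
  have hc : c ≠ 0 := fun h => hx0 (by simp [h])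
  simpa [smul_smul, hc] using W.smul_mem c⁻¹ hx

include hj in
theorem HighVec.span_pair_inf {x : L} {μ : Dual K H} (hx : x ∈ K ∙ D.v ⊔ K ∙ ⁅b.f j, D.v⁆)
    (hxμ : x ∈ wsp H μ) (hx0 : x ≠ 0) : μ = D.ρ ∨ μ = D.ρ - b.baseSupp j := by
  obtain ⟨y, hy, z, hz, rfl⟩ := Submodule.mem_sup.mp hx
  obtain ⟨a, rfl⟩ := Submodule.mem_span_singleton.mp hy
  obtain ⟨c, rfl⟩ := Submodule.mem_span_singleton.mp hz
  by_contra hne
  push Not at hne
  obtain ⟨h1, h2⟩ := hne
  have hcomp : ∀ h : H, (D.ρ h - μ h) • a • D.v + ((D.ρ - b.baseSupp j) h - μ h) • c • ⁅b.f j, D.v⁆ = 0 :=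
    fun h => by
      have e := hxμ h
      rw [lie_add, lie_smul, lie_smul, D.mem h, D.f_mem h, smul_add] at e
      simp only [LinearMap.sub_apply] at e ⊢
      rw [sub_smul, sub_smul, smul_comm (D.ρ h), smul_comm (μ h)] at *
      linear_combination (norm := module) e
  have he : ∀ h : H, ((D.ρ - b.baseSupp j) h - μ h) • c • D.v = 0 := fun h => by
    have e := congrArg (fun z => ⁅b.e j, z⁆) (hcomp h)
    simpa [lie_add, lie_smul, D.killed, D.e_f_self hj] using e
  have hc : c = 0 := by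
    by_contra hc
    refine h2 (LinearMap.ext fun h => ?_)
    have := he h
    rw [smul_smul, smul_eq_zero, mul_eq_zero] at this
    rcases this with (h' | h') | h'
    · exact (sub_eq_zero.mp h').symm
    · exact absurd h' hc
    · exact absurd h' D.ne_zero
  subst hc
  simp only [zero_smul, add_zero] at hxμ hx0
  exact h1 (wsp_unique hx0 hxμ (Submodule.smul_mem _ a D.mem))

include hN hj in
/-- Stable three-dimensional subspaces. -/
theorem HighVec.three {W : Submodule K L} (hW : ∀ h : H, ∀ w ∈ W, ⁅(h : L), w⁆ ∈ W)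
    (hWe : ∀ i, ∀ w ∈ W, ⁅b.e i, w⁆ ∈ W) (hd : finrank K W = 3) :
    ∃ k, k ≠ j ∧ b.A k j ≠ 0 ∧ ⁅b.f k, ⁅b.f j, D.v⁆⁆ ≠ 0 ∧
      W = K ∙ D.v ⊔ K ∙ ⁅b.f j, D.v⁆ ⊔ K ∙ ⁅b.f k, ⁅b.f j, D.v⁆⁆ := by
  obtain ⟨hv, hf⟩ := D.v_f_mem hN hW hWe (by omega)
  set U := K ∙ D.v ⊔ K ∙ ⁅b.f j, D.v⁆ with hU
  have hUd : finrank K U ≤ 2 := (Submodule.finrank_add_le_finrank_add_finrank _ _).trans (by
    rw [finrank_span_singleton D.ne_zero, finrank_span_singleton (D.f_lie_ne_zero hj)])
  have h1 : ¬ W ≤ U := fun h => by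
    have := Submodule.finrank_mono h; omega
  obtain ⟨μ, x, hx, hxU, hxμ, hxe⟩ := D.exists_mem_lie_e_mem hW hWe h1
  have hx0 : x ≠ 0 := fun h => hxU (h ▸ zero_mem _)
  obtain ⟨i, hi⟩ : ∃ i, ⁅b.e i, x⁆ ≠ 0 := by
    by_contra hne
    push Not at hne
    exact hxU (Submodule.mem_sup_left (D.wsp_ρ ((D.of_killed hxμ hne hx0) ▸ hxμ)))
  have hm := lie_mem_wsp (e_mem_wsp b i) hxμ
  rcases D.span_pair_inf hj (hxe i) hm hi with hρ | hρ
  · exfalso
    have hμ : μ = D.ρ - b.baseSupp i := eq_sub_of_add_eq' hρ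
    subst hμ
    obtain ⟨h2, h3⟩ := D.wsp_sub hN hxμ
    obtain rfl := h3 hx0
    exact hxU (Submodule.mem_sup_right h2)
  · have hμ : μ = D.ρ - b.baseSupp j - b.baseSupp i := eq_sub_of_add_eq' hρ
    subst hμ
    obtain ⟨h2, h3⟩ := D.wsp_sub_sub hN hj hxμ
    obtain ⟨hij, hA⟩ := h3 hx0
    obtain ⟨c, rfl⟩ := Submodule.mem_span_singleton.mp h2
    have hc : c ≠ 0 := fun h => hx0 (by simp [h])
    have hg : ⁅b.f i, ⁅b.f j, D.v⁆⁆ ∈ W := by simpa [smul_smul, hc] using W.smul_mem c⁻¹ hx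
    refine ⟨i, hij, hA, fun h => hx0 (by simp [h]), (Submodule.eq_of_le_of_finrank_le ?_ ?_).symm⟩
    · simp only [hU, sup_le_iff, Submodule.span_singleton_le_iff_mem]
      exact ⟨⟨hv, hf⟩, hg⟩
    · rw [hd]
      have hlt : U < U ⊔ K ∙ ⁅b.f i, ⁅b.f j, D.v⁆⁆ := by
        refine lt_of_le_of_ne le_sup_left fun h => hxU ?_
        rw [h]
        exact Submodule.mem_sup_right (Submodule.smul_mem _ c (Submodule.mem_span_singleton_self _))
      have h4 := Submodule.finrank_lt_finrank_of_lt hlt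
      have h5 : 2 ≤ finrank K U := by
        have hlt' : K ∙ D.v < U := by
          refine lt_of_le_of_ne le_sup_left fun h => ?_
          have hm' : ⁅b.f j, D.v⁆ ∈ K ∙ D.v := by rw [h]; exact Submodule.mem_sup_right (Submodule.mem_span_singleton_self _)
          obtain ⟨a, ha⟩ := Submodule.mem_span_singleton.mp hm'
          have := congrArg (fun z => ⁅b.e j, z⁆) ha
          simp [lie_smul, D.killed, D.e_f_self hj, D.ne_zero.symm] at this
        have := Submodule.finrank_lt_finrank_of_lt hlt'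
        rw [finrank_span_singleton D.ne_zero] at this
        omega
      omega

end top

end Groth.Agent.H25Adj
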