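import Groth.Agent.H25Adj.Basic

/-!
# Root spaces as simultaneous eigenspaces; the highest root vector
-/

set_option autoImplicit false
set_option linter.style.haveILetI false

open LieAlgebra LieModule Module

namespace Groth.Agent.H25Adj

variable {ι K L : Type*} [Fintype ι] [Field K] [CharZero K] [IsAlgClosed K] [LieRing L] [LieAlgebra K L]
  [FiniteDimensional K L] [LieAlgebra.IsSimple K L]
  (H : LieSubalgebra K L) [H.IsCartanSubalgebra]

theorem rootSpace_eq_wsp (μ : Dual K H) : (rootSpace H μ : Submodule K L) = wsp H μ := by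
  haveI : IsKilling K L := inferInstance
  refine le_antisymm (fun x hx h => ?_) (fun x hx => ?_)
  · exact IsKilling.lie_eq_smul_of_mem_rootSpace hx h
  · show x ∈ genWeightSpace L (μ : H → K)
    rw [mem_genWeightSpace]
    intro h
    refine ⟨1, ?_⟩
    simp only [pow_one, LinearMap.sub_apply, LinearMap.smul_apply, Module.End.one_apply, toEnd_apply_apply]
    rw [show ⁅h, x⁆ = ⁅(h : L), x⁆ from rfl, hx h, sub_self]

variable {H} (b : LieAlgebra.Basis ι H) (ρ : Dual K H)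

theorem exists_highVec (hρ : rootSpace H ρ ≠ ⊥) (htop : ∀ i, rootSpace H (ρ + b.baseSupp i) = ⊥) :
    ∃ D : HighVec b, D.ρ = ρ := by
  obtain ⟨v, hv, hv0⟩ : ∃ v ∈ (rootSpace H ρ : Submodule K L), v ≠ 0 := by
    by_contra h
    push Not at h
    exact hρ ((LieSubmodule.eq_bot_iff _).mpr h)
  rw [rootSpace_eq_wsp] at hv
  refine ⟨⟨v, ρ, hv, fun i => ?_, hv0⟩, rfl⟩
  have h1 := lie_mem_wsp (e_mem_wsp b i) hv
  rw [add_comm, ← rootSpace_eq_wsp] at h1
  have h2 := htop i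
  change ⁅b.e i, v⁆ ∈ rootSpace H ((ρ : H → K) + (b.baseSupp i : H → K)) at h1
  rw [h2] at h1
  exact (LieSubmodule.mem_bot _).mp h1

theorem stable_iff (W : Submodule K L) :
    (∀ x ∈ H.toSubmodule ⊔ (b.borelUpper : Submodule K L), ∀ w ∈ W, ⁅x, w⁆ ∈ W) ↔
      (∀ h : H, ∀ w ∈ W, ⁅(h : L), w⁆ ∈ W) ∧ ∀ i, ∀ w ∈ W, ⁅b.e i, w⁆ ∈ W := by
  constructor
  · intro h
    refine ⟨fun x w hw => h x (Submodule.mem_sup_left x.2) w hw, fun i w hw => h _ ?_ w hw⟩
    exact Submodule.mem_sup_right (LieSubalgebra.subset_lieSpan (Set.mem_range_self i))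
  · rintro ⟨h1, h2⟩ x hx w hw
    obtain ⟨y, hy, z, hz, rfl⟩ := Submodule.mem_sup.mp hx
    rw [add_lie]
    refine add_mem (h1 ⟨y, hy⟩ w hw) ?_
    let T : LieSubalgebra K L :=
      { carrier := {x | ∀ s ∈ W, ⁅x, s⁆ ∈ W}
        zero_mem' := fun s _ => by simp
        add_mem' := fun {x y} hx hy s hs => by rw [add_lie]; exact add_mem (hx s hs) (hy s hs)
        smul_mem' := fun c x hx s hs => by rw [smul_lie]; exact W.smul_mem c (hx s hs)
        lie_mem' := fun {x y} hx hy s hs => by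
          rw [lie_lie]; exact sub_mem (hx _ (hy s hs)) (hy _ (hx s hs)) }
    have hT : LieSubalgebra.lieSpan K L (Set.range b.e) ≤ T := by
      rw [LieSubalgebra.lieSpan_le]
      rintro _ ⟨i, rfl⟩ s hs
      exact h2 i s hs
    exact hT hz w hw

variable {b} (D : HighVec b) {j : ι} (hN : ∀ i, D.ρ (b.h' i) ≠ 0 ↔ i = j) (hj : D.ρ (b.h' j) = 1)

theorem wsp_ρ_eq : wsp H D.ρ = K ∙ D.v :=
  le_antisymm (fun _ hx => D.wsp_ρ hx) ((Submodule.span_singleton_le_iff_mem _ _).mpr D.mem)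

include hN in
theorem wsp_sub_eq : wsp H (D.ρ - b.baseSupp j) = K ∙ ⁅b.f j, D.v⁆ :=
  le_antisymm (fun _ hx => (D.wsp_sub hN hx).1) ((Submodule.span_singleton_le_iff_mem _ _).mpr D.f_mem)

include hN hj in
theorem wsp_sub_sub_eq (k : ι) :
    wsp H (D.ρ - b.baseSupp j - b.baseSupp k) = K ∙ ⁅b.f k, ⁅b.f j, D.v⁆⁆ :=
  le_antisymm (fun _ hx => (D.wsp_sub_sub hN hj hx).1)
    ((Submodule.span_singleton_le_iff_mem _ _).mpr (D.ff_mem k))

end Groth.Agent.H25Adj
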